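import Mathlib

/-! Flatness of ideally separated modules from flatness modulo `I` and at finitely many primes. -/

set_option autoImplicit false
set_option linter.style.haveILetI false
set_option backward.isDefEq.respectTransparency false
set_option maxHeartbeats 800000
universe u

namespace Groth.Agent.EGAFlat

open TensorProduct

variable {A : Type u} [CommRing A] (M : Type u) [AddCommGroup M] [Module A M]

/-- A linear map killing `I` on both sides stays injective after tensoring. -/
theorem rTensor_injective_of_killed (I : Ideal A) [Module.Flat (A ⧸ I) ((A ⧸ I) ⊗[A] M)]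
    {P Q : Type u} [AddCommGroup P] [Module A P] [AddCommGroup Q] [Module A Q]
    (hP : Module.IsTorsionBySet A P (I : Set A)) (hQ : Module.IsTorsionBySet A Q (I : Set A))
    (f : P →ₗ[A] Q) (hf : Function.Injective f) : Function.Injective (f.rTensor M) := by
  letI := hP.module
  letI := hQ.module
  haveI : IsScalarTower A (A ⧸ I) P := hP.isScalarTower
  haveI : IsScalarTower A (A ⧸ I) Q := hQ.isScalarTower
  let f' : P →ₗ[A ⧸ I] Q :=
    { f with
      map_smul' := fun c x => by
        obtain ⟨a, rfl⟩ := Ideal.Quotient.mk_surjective c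
        exact map_smul f a x }
  let cP := AlgebraTensorModule.cancelBaseChange A (A ⧸ I) (A ⧸ I) P M
  let cQ := AlgebraTensorModule.cancelBaseChange A (A ⧸ I) (A ⧸ I) Q M
  have h : ∀ z, cQ (f'.rTensor ((A ⧸ I) ⊗[A] M) z) = f.rTensor M (cP z) := by
    intro z
    induction z using TensorProduct.induction_on with
    | zero => simp
    | add x y hx hy => simp only [map_add, hx, hy]
    | tmul p w =>
      induction w using TensorProduct.induction_on with
      | zero => simp
      | add x y hx hy => simp only [TensorProduct.tmul_add, map_add, hx, hy]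
      | tmul c m =>
        simp only [LinearMap.rTensor_tmul, cP, cQ, AlgebraTensorModule.cancelBaseChange_tmul]
        rw [← map_smul f']
        rfl
  have hinj : Function.Injective (f'.rTensor ((A ⧸ I) ⊗[A] M)) :=
    Module.Flat.rTensor_preserves_injective_linearMap f' hf
  intro x y hxy
  obtain ⟨x, rfl⟩ := cP.surjective x
  obtain ⟨y, rfl⟩ := cP.surjective y
  rw [← h, ← h] at hxy
  rw [hinj (cQ.injective hxy)]

/-- `Tor_1(N, M) = 0`, phrased for free covers. -/
def Acyclic (N : Type u) [AddCommGroup N] [Module A N] : Prop :=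
  ∀ (Q : Type u) [AddCommGroup Q] [Module A Q] (g : Q →ₗ[A] N), Function.Surjective g →
    Function.Injective ((LinearMap.ker g).subtype.rTensor M)

theorem acyclic_of_killed (I : Ideal A) [Module.Flat (A ⧸ I) ((A ⧸ I) ⊗[A] M)]
    (hI : Function.Injective (I.subtype.rTensor M)) {N : Type u} [AddCommGroup N] [Module A N]
    (hN : Module.IsTorsionBySet A N (I : Set A)) : Acyclic (A := A) M N := by
  classical
  -- free covers
  have free : ∀ (F : Type u) (_ : AddCommGroup F) (_ : Module A F) (ι : Type u) (b : Module.Basis ι A F)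
      (g : F →ₗ[A] N), Function.Surjective g → Function.Injective ((LinearMap.ker g).subtype.rTensor M) := by
    intro F _ _ ι b g hg
    let J : (ι →₀ I) →ₗ[A] F := b.repr.symm.toLinearMap ∘ₗ Finsupp.mapRange.linearMap (α := ι) I.subtype
    let IF : Submodule A F := LinearMap.range J
    have hle : IF ≤ LinearMap.ker g := by
      rintro _ ⟨x, rfl⟩
      induction x using Finsupp.induction_linear with
      | zero => simp
      | add x y hx hy => rw [map_add]; exact add_mem hx hy
      | single i a =>
        have h1 : J (Finsupp.single i a) = (a : A) • b i := by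
          simp [J]
        rw [LinearMap.mem_ker, h1, map_smul]
        exact @hN (g (b i)) a
    have hinjIF : Function.Injective (IF.subtype.rTensor M) := by
      let j := J.rangeRestrict
      have hj : Function.Surjective (j.rTensor M) :=
        LinearMap.rTensor_surjective M (LinearMap.surjective_rangeRestrict _)
      have hcomp : Function.Injective (J.rTensor M) := by
        intro x y hxy
        replace hxy : (Finsupp.mapRange.linearMap (α := ι) I.subtype).rTensor M x =
            (Finsupp.mapRange.linearMap (α := ι) I.subtype).rTensor M y := by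
          have h2 := congrArg (b.repr.toLinearMap.rTensor M) hxy
          rw [← LinearMap.rTensor_comp_apply, ← LinearMap.rTensor_comp_apply, show b.repr.toLinearMap ∘ₗ J =
            Finsupp.mapRange.linearMap (α := ι) I.subtype from LinearMap.ext fun z => b.repr.apply_symm_apply _] at h2
          exact h2
        apply (TensorProduct.finsuppLeft A A I M ι).injective
        ext i
        apply hI
        have key : ∀ z, I.subtype.rTensor M (TensorProduct.finsuppLeft A A I M ι z i) =
            TensorProduct.finsuppLeft A A A M ι ((Finsupp.mapRange.linearMap (α := ι) I.subtype).rTensor M z) i := by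
          intro z
          induction z using TensorProduct.induction_on with
          | zero => simp
          | tmul p m => simp
          | add a b ha hb => simp only [map_add, Finsupp.add_apply, ha, hb]
        rw [key, key, hxy]
      intro x y hxy
      obtain ⟨x, rfl⟩ := hj x
      obtain ⟨y, rfl⟩ := hj y
      rw [← LinearMap.rTensor_comp_apply, ← LinearMap.rTensor_comp_apply] at hxy
      exact congrArg _ (hcomp hxy)
    let K := LinearMap.ker g
    let IFK : Submodule A K := IF.comap K.subtype
    refine (injective_iff_map_eq_zero _).2 fun x hx => ?_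
    have hkF : ∀ (a : I) (v : F), (a : A) • v ∈ IF := by
      intro a v
      obtain ⟨v, rfl⟩ := b.repr.symm.surjective v
      induction v using Finsupp.induction_linear with
      | zero => simp
      | add u w hu hw => rw [map_add, smul_add]; exact add_mem hu hw
      | single i c =>
        refine ⟨Finsupp.single i (c • a), ?_⟩
        have h1 : ∀ a' : I, J (Finsupp.single i a') = (a' : A) • b i := fun a' => by simp [J]
        rw [h1, Module.Basis.repr_symm_single, Submodule.coe_smul, smul_eq_mul, smul_smul, mul_comm]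
    have hq : Function.Injective ((IFK.mapQ IF K.subtype (le_refl (Submodule.comap K.subtype IF))).rTensor M) := by
      refine rTensor_injective_of_killed M I ?_ ?_ _ ?_
      · intro v a
        obtain ⟨v, rfl⟩ := IFK.mkQ_surjective v
        rw [← map_smul, Submodule.mkQ_apply, Submodule.Quotient.mk_eq_zero]
        exact hkF a (v : F)
      · intro v a
        obtain ⟨v, rfl⟩ := IF.mkQ_surjective v
        rw [← map_smul, Submodule.mkQ_apply, Submodule.Quotient.mk_eq_zero]
        exact hkF a v
      · rw [← LinearMap.ker_eq_bot, Submodule.ker_mapQ, ← le_bot_iff, Submodule.map_le_iff_le_comap, Submodule.comap_bot, Submodule.ker_mkQ]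
    have h1 : IFK.mkQ.rTensor M x = 0 := by
      apply hq
      rw [map_zero, ← LinearMap.rTensor_comp_apply, Submodule.mapQ_mkQ, LinearMap.rTensor_comp_apply, hx, map_zero]
    obtain ⟨y, rfl⟩ := (rTensor_exact M (LinearMap.exact_subtype_mkQ IFK) IFK.mkQ_surjective x).1 h1
    let e : IFK →ₗ[A] IF := (K.subtype.domRestrict IFK).codRestrict IF fun z => z.2
    let e' : IF →ₗ[A] IFK := (IF.subtype.codRestrict K fun z => hle z.2).codRestrict IFK fun z => z.2
    have hy : e.rTensor M y = 0 := by
      apply hinjIF
      rw [map_zero, ← LinearMap.rTensor_comp_apply, ← hx, ← LinearMap.rTensor_comp_apply]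
      rfl
    have he : y = e'.rTensor M (e.rTensor M y) := by
      rw [← LinearMap.rTensor_comp_apply, show e'.comp e = LinearMap.id from rfl, LinearMap.rTensor_id]
      rfl
    rw [he, hy, map_zero, map_zero]
  -- arbitrary covers
  intro Q _ _ g hg
  obtain ⟨F, iF, mF, ⟨b⟩⟩ : ∃ (F : Type u) (_ : AddCommGroup F) (_ : Module A F),
      Nonempty (Module.Basis Q A F) := ⟨Q →₀ A, inferInstance, inferInstance, ⟨Finsupp.basisSingleOne⟩⟩
  let s : F →ₗ[A] Q := b.constr A (id : Q → Q)
  have hs : Function.Surjective s := fun q => ⟨b q, by simp [s]⟩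
  let sK : LinearMap.ker (g ∘ₗ s) →ₗ[A] LinearMap.ker g := s.restrict fun v hv => hv
  have hsK : Function.Surjective sK := fun k => by
    obtain ⟨v, hv⟩ := hs k
    exact ⟨⟨v, by rw [LinearMap.mem_ker, LinearMap.comp_apply, hv]; exact k.2⟩, Subtype.ext hv⟩
  refine (injective_iff_map_eq_zero _).2 fun x hx => ?_
  obtain ⟨y, rfl⟩ := LinearMap.rTensor_surjective M hsK x
  have h1 : s.rTensor M ((LinearMap.ker (g ∘ₗ s)).subtype.rTensor M y) = 0 := by
    rw [← hx, ← LinearMap.rTensor_comp_apply, ← LinearMap.rTensor_comp_apply]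
    rfl
  obtain ⟨l, hl⟩ := (rTensor_exact M (LinearMap.exact_subtype_ker_map s) hs _).1 h1
  let i : LinearMap.ker s →ₗ[A] LinearMap.ker (g ∘ₗ s) :=
    (LinearMap.ker s).subtype.codRestrict _ fun z => by
      rw [LinearMap.mem_ker, LinearMap.comp_apply, show s ((LinearMap.ker s).subtype z) = 0 from z.2, map_zero]
  have hy : y = i.rTensor M l := by
    apply free F iF mF Q b (g ∘ₗ s) (hg.comp hs)
    rw [← hl, ← LinearMap.rTensor_comp_apply]
    rfl
  rw [hy, ← LinearMap.rTensor_comp_apply, show sK.comp i = 0 from LinearMap.ext fun z => Subtype.ext z.2,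
    LinearMap.rTensor_zero]
  rfl

theorem acyclic_of_pow (I : Ideal A) [Module.Flat (A ⧸ I) ((A ⧸ I) ⊗[A] M)]
    (hI : Function.Injective (I.subtype.rTensor M)) :
    ∀ (n : ℕ) (N : Type u) [AddCommGroup N] [Module A N], Module.IsTorsionBySet A N ((I ^ n : Ideal A) : Set A) →
      Acyclic (A := A) M N := by
  intro n
  induction n with
  | zero =>
    intro N _ _ hN
    refine acyclic_of_killed M I hI fun v a => ?_
    have : v = 0 := by simpa using @hN v ⟨1, by simp⟩
    rw [this, smul_zero]
  | succ n ih =>
    intro N _ _ hN Q _ _ g hg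
    let N' : Submodule A N := I • ⊤
    let g'' : Q →ₗ[A] N ⧸ N' := N'.mkQ ∘ₗ g
    let g' : LinearMap.ker g'' →ₗ[A] N' := g.restrict fun v hv => (Submodule.Quotient.mk_eq_zero N').1 hv
    have hg' : Function.Surjective g' := fun v => by
      obtain ⟨q, hq⟩ := hg v
      exact ⟨⟨q, by rw [LinearMap.mem_ker, LinearMap.comp_apply, hq]; exact (Submodule.Quotient.mk_eq_zero N').2 v.2⟩,
        Subtype.ext hq⟩
    have h1 := ih N' (fun v a => by
      have hall : ∀ w ∈ N', (a : A) • w = 0 := by
        intro w hw
        induction hw using Submodule.smul_induction_on' with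
        | smul c hc z _ =>
          rw [smul_smul]
          exact @hN z ⟨(a : A) * c, by rw [pow_succ]; exact Ideal.mul_mem_mul a.2 hc⟩
        | add x _ y _ hx hy => rw [smul_add, hx, hy, add_zero]
      exact Subtype.ext (hall _ v.2)) _ g' hg'
    have h2 := acyclic_of_killed M I hI (N := N ⧸ N') (fun v a => by
      obtain ⟨v, rfl⟩ := N'.mkQ_surjective v
      rw [← map_smul, Submodule.mkQ_apply, Submodule.Quotient.mk_eq_zero]
      exact Submodule.smul_mem_smul a.2 Submodule.mem_top) Q g'' (N'.mkQ_surjective.comp hg)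
    let i : LinearMap.ker g →ₗ[A] LinearMap.ker g' :=
      (((LinearMap.ker g).subtype.codRestrict (LinearMap.ker g'') fun z => by
          rw [LinearMap.mem_ker, LinearMap.comp_apply, show g ((LinearMap.ker g).subtype z) = 0 from z.2, map_zero])).codRestrict _
        fun z => LinearMap.mem_ker.2 (Subtype.ext z.2)
    let j : LinearMap.ker g' →ₗ[A] LinearMap.ker g :=
      ((LinearMap.ker g'').subtype.domRestrict _).codRestrict _ fun z =>
        congrArg Subtype.val (LinearMap.mem_ker.1 z.2)
    refine (injective_iff_map_eq_zero _).2 fun x hx => ?_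
    have h3 : i.rTensor M x = 0 := by
      apply h1
      apply h2
      rw [map_zero, map_zero, ← hx, ← LinearMap.rTensor_comp_apply, ← LinearMap.rTensor_comp_apply]
      rfl
    rw [show x = j.rTensor M (i.rTensor M x) from by
      rw [← LinearMap.rTensor_comp_apply, show j.comp i = LinearMap.id from rfl, LinearMap.rTensor_id]; rfl,
      h3, map_zero]

/-- An element of the kernel of `C ⊗ M → M` is killed outside a prime where `M` is flat. -/
theorem exists_smul_eq_zero (p : Ideal A) [p.IsPrime]
    [Module.Flat (Localization.AtPrime p) (LocalizedModule p.primeCompl M)] (C : Ideal A)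
    (x : C ⊗[A] M) (hx : C.subtype.rTensor M x = 0) : ∃ s : A, s ∉ p ∧ s • x = 0 := by
  haveI : Module.Flat A (LocalizedModule p.primeCompl M) :=
    Module.Flat.trans A (Localization.AtPrime p) _
  let mk := LocalizedModule.mkLinearMap p.primeCompl M
  let L : M ⊗[A] C →ₗ[A] LocalizedModule p.primeCompl M ⊗[A] C := AlgebraTensorModule.rTensor A C mk
  have h1 : C.subtype.lTensor M (TensorProduct.comm A C M x) = 0 := by
    have h0 : ∀ z, C.subtype.lTensor M (TensorProduct.comm A C M z) =
        TensorProduct.comm A A M (C.subtype.rTensor M z) := by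
      intro z
      induction z using TensorProduct.induction_on with
      | zero => simp
      | tmul a m => simp
      | add a b ha hb => simp only [map_add, ha, hb]
    rw [h0, hx, map_zero]
  have h2 : L (TensorProduct.comm A C M x) = 0 := by
    apply Module.Flat.lTensor_preserves_injective_linearMap (M := LocalizedModule p.primeCompl M) C.subtype
      Subtype.val_injective
    rw [map_zero]
    have h0 : ∀ z, C.subtype.lTensor (LocalizedModule p.primeCompl M) (L z) =
        mk.rTensor A (C.subtype.lTensor M z) := by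
      intro z
      induction z using TensorProduct.induction_on with
      | zero => simp
      | tmul a m => simp [L]
      | add a b ha hb => simp only [map_add, ha, hb]
    rw [h0, h1, map_zero]
  obtain ⟨s, hs⟩ := (IsLocalizedModule.eq_zero_iff p.primeCompl L).1 h2
  refine ⟨s, s.2, (TensorProduct.comm A C M).injective ?_⟩
  rw [map_zero, map_smul]
  exact hs

theorem flat_of_detect [IsNoetherianRing A] (C : ℕ → Ideal A) [Module.Flat (A ⧸ C 1) ((A ⧸ C 1) ⊗[A] M)]
    (hle : ∀ k, 1 ≤ k → C (k + 1) ≤ C k) (hmul : ∀ k, 1 ≤ k → C 1 * C k ≤ C (k + 1))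
    {ι : Type u} [Finite ι] (p : ι → Ideal A) [∀ i, (p i).IsPrime]
    [∀ i, Module.Flat (Localization.AtPrime (p i)) (LocalizedModule (p i).primeCompl M)]
    (hdet : ∀ (k : ℕ), 1 ≤ k → ∀ d ∈ C k, ∀ s : ι → A, (∀ i, s i ∉ p i) → (∀ i, s i * d ∈ C (k + 1)) → d ∈ C (k + 1))
    (htop : ∀ n, ∃ m, 1 ≤ m ∧ C m ≤ C 1 ^ n)
    (hsep : ∀ a : Ideal A, IsHausdorff (C 1) (↥a ⊗[A] M)) : Module.Flat A M := by
  classical
  haveI := Fintype.ofFinite ι
  -- one step of the filtration
  have step : ∀ k, 1 ≤ k → ∀ (h : C (k + 1) ≤ C k) (x : ↥(C k) ⊗[A] M), (C k).subtype.rTensor M x = 0 →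
      ∃ y, (Submodule.inclusion h).rTensor M y = x := by
    intro k hk h x hx
    choose s hs hsx using fun i => exists_smul_eq_zero M (p i) (C k) x hx
    have hex : Function.Exact (Submodule.inclusion h) (Submodule.comap (C k).subtype (C (k + 1))).mkQ := by
      intro z
      rw [Submodule.mkQ_apply, Submodule.Quotient.mk_eq_zero]
      exact ⟨fun hz => ⟨⟨(z : A), hz⟩, rfl⟩, by rintro ⟨w, rfl⟩; exact w.2⟩
    refine (rTensor_exact M hex (Submodule.mkQ_surjective _) x).1 ?_
    let D := ↥(C k) ⧸ Submodule.comap (C k).subtype (C (k + 1))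
    have htD : Module.IsTorsionBySet A D (C 1) := fun v a => by
      obtain ⟨v, rfl⟩ := Submodule.mkQ_surjective _ v
      rw [← map_smul, Submodule.mkQ_apply, Submodule.Quotient.mk_eq_zero]
      exact hmul k hk (Ideal.mul_mem_mul a.2 v.2)
    let Φ : D →ₗ[A] (ι → D) := LinearMap.pi fun i => LinearMap.lsmul A D (s i)
    have hΦ : Function.Injective Φ := (injective_iff_map_eq_zero Φ).2 fun v hv => by
      obtain ⟨v, rfl⟩ := Submodule.mkQ_surjective _ v
      rw [Submodule.mkQ_apply, Submodule.Quotient.mk_eq_zero]
      refine hdet k hk _ v.2 s hs fun i => ?_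
      have := congrFun hv i
      simp only [Φ, LinearMap.pi_apply, LinearMap.lsmul_apply, ← map_smul, Pi.zero_apply,
        Submodule.mkQ_apply] at this
      rw [← Submodule.Quotient.mk_smul, Submodule.Quotient.mk_eq_zero] at this
      exact this
    have hΦM : Function.Injective (Φ.rTensor M) :=
      rTensor_injective_of_killed M (C 1) htD (by intro v a; funext i; exact @htD (v i) a) Φ hΦ
    apply hΦM
    rw [map_zero, ← LinearMap.rTensor_comp_apply]
    have hid : Φ = ∑ i, (LinearMap.single A (fun _ : ι => D) i) ∘ₗ LinearMap.lsmul A D (s i) := by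
      ext v j
      simp [Φ, LinearMap.sum_apply, Finset.sum_apply, Pi.single_apply]
    rw [LinearMap.rTensor_comp_apply, hid, ← LinearMap.coe_rTensorHom, map_sum, LinearMap.sum_apply]
    refine Finset.sum_eq_zero fun i _ => ?_
    rw [LinearMap.coe_rTensorHom, LinearMap.rTensor_comp_apply,
      show LinearMap.lsmul A D (s i) = s i • LinearMap.id from LinearMap.ext fun _ => rfl,
      LinearMap.rTensor_smul, LinearMap.smul_apply, LinearMap.rTensor_id, LinearMap.id_apply, ← map_smul, hsx,
      map_zero, map_zero]
  have hC : ∀ k, 1 ≤ k → C k ≤ C 1 := fun k hk => Nat.le_induction le_rfl (fun j hj hj' => (hle j hj).trans hj') k hk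
  have hI : Function.Injective ((C 1).subtype.rTensor M) := by
    refine (injective_iff_map_eq_zero _).2 fun x hx => (hsep (C 1)).haus x fun n => ?_
    have hall : ∀ k (hk : 1 ≤ k), ∃ y : ↥(C k) ⊗[A] M,
        (Submodule.inclusion (hC k hk)).rTensor M y = x := by
      intro k hk
      induction k, hk using Nat.le_induction with
      | base => exact ⟨x, LinearMap.rTensor_id_apply M _ x⟩
      | succ k hk ih =>
        obtain ⟨y, rfl⟩ := ih
        have hy : (C k).subtype.rTensor M y = 0 := by
          rw [← hx, ← LinearMap.rTensor_comp_apply]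
          rfl
        obtain ⟨z, rfl⟩ := step k hk (hle k hk) y hy
        exact ⟨z, by rw [← LinearMap.rTensor_comp_apply]; rfl⟩
    obtain ⟨m', hm1, hm'⟩ := htop (n + 1)
    obtain ⟨y, hy⟩ := hall m' hm1
    rw [SModEq.zero, ← hy]
    clear hy
    induction y using TensorProduct.induction_on with
    | zero => simp
    | add a b ha hb => rw [map_add]; exact Submodule.add_mem _ ha hb
    | tmul c v =>
      have hc : (c : A) ∈ C 1 ^ n * C 1 := by rw [← pow_succ]; exact hm' c.2
      rw [LinearMap.rTensor_tmul]
      have hle' : C 1 ^ n * C 1 ≤ C 1 := Ideal.mul_le_right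
      have gen : ∀ b ∈ C 1 ^ n * C 1, ∀ hb : b ∈ C 1,
          ((⟨b, hb⟩ : C 1) ⊗ₜ[A] v) ∈ (C 1 ^ n) • (⊤ : Submodule A (↥(C 1) ⊗[A] M)) := by
        intro b hb
        induction hb using Submodule.mul_induction_on' with
        | mem_mul_mem r hr t ht =>
          intro hb'
          rw [show (⟨r * t, hb'⟩ : C 1) = r • (⟨t, ht⟩ : C 1) from rfl, ← TensorProduct.smul_tmul']
          exact Submodule.smul_mem_smul hr Submodule.mem_top
        | add a ha b hb iha ihb =>
          intro hab
          rw [show (⟨a + b, hab⟩ : C 1) = ⟨a, hle' ha⟩ + ⟨b, hle' hb⟩ from Subtype.ext rfl,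
            TensorProduct.add_tmul]
          exact Submodule.add_mem _ (iha _) (ihb _)
      exact gen _ hc _
  -- arbitrary ideals
  rw [Module.Flat.iff_rTensor_injective']
  intro a
  refine (injective_iff_map_eq_zero _).2 fun x hx => (hsep a).haus x fun n => ?_
  obtain ⟨k, hk⟩ := Ideal.exists_pow_inf_eq_pow_smul (C 1) (a : Submodule A A)
  let P := C 1 ^ (n + k)
  let R := A ⧸ P
  let g : a →ₗ[A] R := P.mkQ ∘ₗ a.subtype
  let W := LinearMap.range g
  have hacy := acyclic_of_pow M (C 1) hI (n + k) (R ⧸ W) (fun v b => by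
    obtain ⟨v, rfl⟩ := W.mkQ_surjective v
    obtain ⟨v, rfl⟩ := P.mkQ_surjective v
    rw [← map_smul, ← map_smul, Submodule.mkQ_apply P, (Submodule.Quotient.mk_eq_zero P).2
      (show (b : A) • v ∈ P from P.mul_mem_right v b.2), map_zero]) R W.mkQ W.mkQ_surjective
  let g' : a →ₗ[A] LinearMap.ker W.mkQ := g.codRestrict _ fun z => by
    rw [Submodule.ker_mkQ]; exact LinearMap.mem_range_self g z
  have h1 : g'.rTensor M x = 0 := by
    apply hacy
    rw [map_zero, ← LinearMap.rTensor_comp_apply, show (LinearMap.ker W.mkQ).subtype.comp g' = P.mkQ ∘ₗ a.subtype from rfl,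
      LinearMap.rTensor_comp_apply, hx, map_zero]
  have hsurj : Function.Surjective g' := fun z => by
    have hz : (z : R) ∈ W := (Submodule.Quotient.mk_eq_zero W).1 (LinearMap.mem_ker.1 z.2)
    obtain ⟨w, hw⟩ := hz
    exact ⟨w, Subtype.ext hw⟩
  obtain ⟨y, rfl⟩ := (rTensor_exact M (LinearMap.exact_subtype_ker_map g') hsurj x).1 h1
  rw [SModEq.zero]
  clear hx h1
  induction y using TensorProduct.induction_on with
  | zero => simp
  | add c d hc hd => rw [map_add]; exact Submodule.add_mem _ hc hd
  | tmul c v =>
    rw [LinearMap.rTensor_tmul]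
    have hcP : ((c : a) : A) ∈ C 1 ^ (n + k) • (⊤ : Submodule A A) ⊓ a := by
      refine ⟨?_, (c : a).2⟩
      rw [smul_eq_mul, Ideal.mul_top]
      have := congrArg Subtype.val (LinearMap.mem_ker.1 c.2)
      exact (Submodule.Quotient.mk_eq_zero P).1 this
    rw [hk (n + k) (Nat.le_add_left k n), Nat.add_sub_cancel] at hcP
    have gen : ∀ b ∈ (C 1 ^ n) • (C 1 ^ k • (⊤ : Submodule A A) ⊓ a), ∀ hb : b ∈ a,
        ((⟨b, hb⟩ : a) ⊗ₜ[A] v) ∈ (C 1 ^ n) • (⊤ : Submodule A (↥a ⊗[A] M)) := by
      intro b hb
      induction hb using Submodule.smul_induction_on' with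
      | smul r hr t ht =>
        intro hb'
        rw [show (⟨r • t, hb'⟩ : a) = r • (⟨t, ht.2⟩ : a) from rfl, ← TensorProduct.smul_tmul']
        exact Submodule.smul_mem_smul hr Submodule.mem_top
      | add b hb d hd ihb ihd =>
        intro hbd
        have hle' : (C 1 ^ n) • (C 1 ^ k • (⊤ : Submodule A A) ⊓ a) ≤ a :=
          Submodule.smul_le_right.trans inf_le_right
        rw [show (⟨b + d, hbd⟩ : a) = ⟨b, hle' hb⟩ + ⟨d, hle' hd⟩ from rfl, TensorProduct.add_tmul]
        exact Submodule.add_mem _ (ihb _) (ihd _)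
    exact gen _ hcP _

end Groth.Agent.EGAFlat

namespace Groth.Agent.EGAFlat

open TensorProduct

theorem flat_quot_of_le {A : Type u} [CommRing A] (M : Type u) [AddCommGroup M] [Module A M] {J I : Ideal A}
    (h : J ≤ I) [Module.Flat (A ⧸ J) ((A ⧸ J) ⊗[A] M)] : Module.Flat (A ⧸ I) ((A ⧸ I) ⊗[A] M) := by
  letI : Algebra (A ⧸ J) (A ⧸ I) := (Ideal.Quotient.factor h).toAlgebra
  haveI : IsScalarTower A (A ⧸ J) (A ⧸ I) := IsScalarTower.of_algebraMap_eq fun _ => rfl
  exact Module.Flat.of_linearEquiv (AlgebraTensorModule.cancelBaseChange A (A ⧸ J) (A ⧸ I) (A ⧸ I) M).symm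

theorem isHausdorff_of_pow_le {A : Type u} [CommRing A] {J I : Ideal A} {c : ℕ} (h : I ^ c ≤ J) {M : Type u}
    [AddCommGroup M] [Module A M] (hM : IsHausdorff J M) : IsHausdorff I M :=
  ⟨fun x hx => hM.haus x fun n => (hx (c * n)).mono (Submodule.smul_mono_left (by
    rw [pow_mul]; exact Ideal.pow_right_mono h n))⟩

end Groth.Agent.EGAFlat
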